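import Mathlib
import Cfsg.Agent.Lib.Lead.CommGraph.Data

/-!
The symmetries of the incidence graph of the projective plane of order three.
-/

set_option autoImplicit false

namespace Cfsg.Agent.Lead.CommGraph

/-- incidence of two cliques -/
def iAdj (i j : Fin 26) : Prop :=
  i ≠ j ∧ (cliqueList.getD i 0 &&& cliqueList.getD j 0) ≠ 0

instance (i j : Fin 26) : Decidable (iAdj i j) := inferInstanceAs (Decidable (_ ∧ _))

/-- whether a clique is a point -/
def isPt (i : Fin 26) : Bool := decide ((i : ℕ) < 13)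

theorem iAdj_type : ∀ i j : Fin 26, iAdj i j → isPt i ≠ isPt j := by decide +kernel

theorem same_type_common : ∀ i j : Fin 26, isPt i = isPt j → ∃ k, iAdj i k ∧ iAdj j k := by decide +kernel

/-- symmetries of the incidence graph -/
def incAut : Subgroup (Equiv.Perm (Fin 26)) where
  carrier := {σ | ∀ i j, iAdj (σ i) (σ j) ↔ iAdj i j}
  mul_mem' {σ τ} hσ hτ := fun i j => by
    rw [Equiv.Perm.mul_apply, Equiv.Perm.mul_apply]
    exact (hσ _ _).trans (hτ i j)
  one_mem' := fun i j => Iff.rfl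
  inv_mem' {σ} hσ := fun i j => by
    refine (hσ _ _).symm.trans ?_
    rw [← Equiv.Perm.mul_apply, ← Equiv.Perm.mul_apply, mul_inv_cancel]
    rfl

/-- symmetries keeping points points -/
def planeAut : Subgroup (Equiv.Perm (Fin 26)) where
  carrier := {σ | σ ∈ incAut ∧ ∀ i, isPt (σ i) = isPt i}
  mul_mem' {σ τ} hσ hτ := ⟨mul_mem hσ.1 hτ.1, fun i => by rw [Equiv.Perm.mul_apply, hσ.2, hτ.2]⟩
  one_mem' := ⟨one_mem _, fun i => rfl⟩
  inv_mem' {σ} hσ := ⟨inv_mem hσ.1, fun i => by
    have := hσ.2 (σ⁻¹ i)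
    rw [← Equiv.Perm.mul_apply, mul_inv_cancel] at this
    exact this.symm⟩

theorem type_flip {σ : Equiv.Perm (Fin 26)} (hσ : σ ∈ incAut) (i : Fin 26) :
    isPt (σ i) = (if isPt i then isPt (σ 0) else !isPt (σ 0)) := by
  have hadj : ∀ a b, iAdj a b → isPt (σ a) ≠ isPt (σ b) := fun a b h => iAdj_type _ _ ((hσ a b).2 h)
  have hsame : ∀ a b, isPt a = isPt b → isPt (σ a) = isPt (σ b) := fun a b h => by
    obtain ⟨k, h1, h2⟩ := same_type_common a b h
    have e1 := hadj _ _ h1
    have e2 := hadj _ _ h2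
    revert e1 e2
    cases isPt (σ a) <;> cases isPt (σ b) <;> cases isPt (σ k) <;> simp
  cases hi : isPt i with
  | true => simpa [hi] using hsame i 0 (by rw [hi]; rfl)
  | false =>
    obtain ⟨k, hk, -⟩ := same_type_common i i rfl
    have hk' : isPt k = isPt 0 := by
      have := iAdj_type _ _ hk
      rw [hi] at this
      have h0 : isPt 0 = true := rfl
      revert this
      rw [h0]
      cases isPt k <;> simp
    have e := hadj _ _ hk
    rw [hsame k 0 hk'] at e
    revert e
    simp only [Bool.false_eq_true, if_false]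
    cases isPt (σ i) <;> cases isPt (σ 0) <;> simp

theorem mul_mem_planeAut {σ τ : Equiv.Perm (Fin 26)} (hσ : σ ∈ incAut) (hτ : τ ∈ incAut)
    (h1 : σ ∉ planeAut) (h2 : τ ∉ planeAut) : σ * τ ∈ planeAut := by
  have flip : ∀ ρ : Equiv.Perm (Fin 26), ρ ∈ incAut → ρ ∉ planeAut → ∀ i, isPt (ρ i) = !isPt i := by
    intro ρ hρ hn i
    have h0 : isPt (ρ 0) = false := by
      by_contra hc
      refine hn ⟨hρ, fun j => ?_⟩
      rw [type_flip hρ j, Bool.eq_true_of_not_eq_false hc]
      cases isPt j <;> simp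
    rw [type_flip hρ i, h0]
    cases isPt i <;> simp
  exact ⟨mul_mem hσ hτ, fun i => by rw [Equiv.Perm.mul_apply, flip σ hσ h1, flip τ hτ h2, Bool.not_not]⟩

/-- a table index as a clique -/
def node (n : ℕ) : Fin 26 := ⟨n % 26, Nat.mod_lt _ (by norm_num)⟩

theorem steps_ok : ∀ s ∈ steps, ∀ u : Fin 26, iAdj (node s.2.1) u → iAdj (node s.2.2) u → u = node s.1 := by
  decide +kernel

theorem steps_adj : ∀ s ∈ steps, iAdj (node s.2.1) (node s.1) ∧ iAdj (node s.2.2) (node s.1) := by
  decide +kernel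

/-- the closure of the known nodes under the steps -/
def closeSteps : List (ℕ × ℕ × ℕ) → List ℕ → List ℕ
  | [], acc => acc
  | s :: r, acc => if s.2.1 ∈ acc ∧ s.2.2 ∈ acc then closeSteps r (s.1 :: acc) else closeSteps r acc

theorem steps_total : ∀ i : Fin 26, (i : ℕ) ∈ closeSteps steps frame := by decide +kernel

theorem close_fixed {σ : Equiv.Perm (Fin 26)} (hσ : σ ∈ incAut) :
    ∀ (l : List (ℕ × ℕ × ℕ)), (∀ s ∈ l, s ∈ steps) → ∀ acc : List ℕ,
      (∀ n ∈ acc, σ (node n) = node n) → ∀ n ∈ closeSteps l acc, σ (node n) = node n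
  | [], _, _, hacc => hacc
  | s :: r, hl, acc, hacc => by
    have hr : ∀ s' ∈ r, s' ∈ steps := fun s' hs' => hl s' (List.mem_cons_of_mem _ hs')
    unfold closeSteps
    split_ifs with h
    · refine close_fixed hσ r hr _ fun n hn => ?_
      rcases List.mem_cons.1 hn with rfl | hn
      · obtain ⟨a1, a2⟩ := steps_adj s (hl s (List.mem_cons_self))
        refine steps_ok s (hl s (List.mem_cons_self)) _ ?_ ?_
        · have := (hσ (node s.2.1) (node s.1)).2 a1
          rwa [hacc _ h.1] at this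
        · have := (hσ (node s.2.2) (node s.1)).2 a2
          rwa [hacc _ h.2] at this
      · exact hacc n hn
    · exact close_fixed hσ r hr acc hacc

theorem eq_one_of_frame {σ : Equiv.Perm (Fin 26)} (hσ : σ ∈ incAut)
    (h : ∀ n ∈ frame, σ (node n) = node n) : σ = 1 := by
  refine Equiv.ext fun i => ?_
  have := close_fixed hσ steps (fun s hs => hs) frame h i (steps_total i)
  have e : node (i : ℕ) = i := Fin.ext (Nat.mod_eq_of_lt i.2)
  rwa [e] at this

/-- the lines through a point, as a mask -/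
def prow (n : ℕ) : ℕ := pointRows.getD n 0

/-- no three of the four points are collinear -/
def goodQuad (a b c d : ℕ) : Bool :=
  (prow a &&& prow b &&& prow c == 0) && (prow a &&& prow b &&& prow d == 0) &&
    (prow a &&& prow c &&& prow d == 0) && (prow b &&& prow c &&& prow d == 0)

/-- the codes of the quadrangles -/
def quads : List ℕ :=
  (List.range 28561).filter fun k => goodQuad (k / 2197) (k / 169 % 13) (k / 13 % 13) (k % 13)

theorem quads_length : quads.length = 5616 := by decide +kernel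

theorem prow_spec : ∀ (p q r : Fin 26), isPt p = true → isPt q = true → isPt r = true →
    (prow p &&& prow q &&& prow r ≠ 0 → ∃ u, iAdj p u ∧ iAdj q u ∧ iAdj r u) := by
  decide +kernel

theorem frame_spec : frame.map (fun n => isPt (node n)) = [true, true, true, true] ∧
    frame.map (fun n => ((node n : Fin 26) : ℕ)) = frame ∧
    ∀ a ∈ frame, ∀ b ∈ frame, ∀ c ∈ frame, a ≠ b → a ≠ c → b ≠ c →
      ¬ ∃ u, iAdj (node a) u ∧ iAdj (node b) u ∧ iAdj (node c) u := by
  decide +kernel

theorem card_planeAut_le : Nat.card ↥planeAut ≤ 5616 := by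
  classical
  obtain ⟨f0, f1, f2, f3, hf⟩ : ∃ a b c d, frame = [a, b, c, d] := ⟨_, _, _, _, rfl⟩
  have hd : f0 ≠ f1 ∧ f0 ≠ f2 ∧ f0 ≠ f3 ∧ f1 ≠ f2 ∧ f1 ≠ f3 ∧ f2 ≠ f3 := by
    have : frame.Nodup := by decide +kernel
    rw [hf] at this
    simp at this
    tauto
  have hm : f0 ∈ frame ∧ f1 ∈ frame ∧ f2 ∈ frame ∧ f3 ∈ frame := by simp [hf]
  obtain ⟨ht, -, hg⟩ := frame_spec
  have hpt : ∀ n ∈ frame, isPt (node n) = true := by
    intro n hn
    have := List.mem_map_of_mem (f := fun n => isPt (node n)) hn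
    rw [ht] at this
    simpa using this
  let img : ↥planeAut → ℕ → ℕ := fun σ n => ((σ.1 (node n) : Fin 26) : ℕ)
  have hlt : ∀ σ n, n ∈ frame → img σ n < 13 := fun σ n hn => by
    have := σ.2.2 (node n)
    rw [hpt n hn, isPt, decide_eq_true_iff] at this
    exact this
  have hno : ∀ σ : ↥planeAut, ∀ a b c, a ∈ frame → b ∈ frame → c ∈ frame → a ≠ b → a ≠ c → b ≠ c →
      prow (img σ a) &&& prow (img σ b) &&& prow (img σ c) = 0 := by
    intro σ a b c ha hb hc h1 h2 h3
    by_contra hne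
    obtain ⟨u, u1, u2, u3⟩ := prow_spec (σ.1 (node a)) (σ.1 (node b)) (σ.1 (node c))
      (by rw [σ.2.2]; exact hpt a ha) (by rw [σ.2.2]; exact hpt b hb) (by rw [σ.2.2]; exact hpt c hc) hne
    refine hg a ha b hb c hc h1 h2 h3 ⟨σ.1⁻¹ u, ?_, ?_, ?_⟩ <;>
      · rw [← σ.2.1, ← Equiv.Perm.mul_apply, mul_inv_cancel]
        assumption
  let key : ↥planeAut → ℕ := fun σ => img σ f0 * 2197 + img σ f1 * 169 + img σ f2 * 13 + img σ f3
  have hkey : ∀ σ, key σ ∈ quads := by
    intro σ
    have l0 := hlt σ f0 hm.1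
    have l1 := hlt σ f1 hm.2.1
    have l2 := hlt σ f2 hm.2.2.1
    have l3 := hlt σ f3 hm.2.2.2
    refine List.mem_filter.2 ⟨List.mem_range.2 (by simp only [key]; omega), ?_⟩
    have e0 : key σ / 2197 = img σ f0 := by simp only [key]; omega
    have e1 : key σ / 169 % 13 = img σ f1 := by simp only [key]; omega
    have e2 : key σ / 13 % 13 = img σ f2 := by simp only [key]; omega
    have e3 : key σ % 13 = img σ f3 := by simp only [key]; omega
    simp only [goodQuad, e0, e1, e2, e3, Bool.and_eq_true, beq_iff_eq]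
    exact ⟨⟨⟨hno σ _ _ _ hm.1 hm.2.1 hm.2.2.1 hd.1 hd.2.1 hd.2.2.2.1,
      hno σ _ _ _ hm.1 hm.2.1 hm.2.2.2 hd.1 hd.2.2.1 hd.2.2.2.2.1⟩,
      hno σ _ _ _ hm.1 hm.2.2.1 hm.2.2.2 hd.2.1 hd.2.2.1 hd.2.2.2.2.2⟩,
      hno σ _ _ _ hm.2.1 hm.2.2.1 hm.2.2.2 hd.2.2.2.1 hd.2.2.2.2.1 hd.2.2.2.2.2⟩
  let pos : ↥planeAut → Fin quads.length := fun σ => ⟨quads.idxOf (key σ), List.idxOf_lt_length_iff.2 (hkey σ)⟩
  have hinj : Function.Injective pos := by
    intro σ τ h
    have hk : key σ = key τ := by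
      have := congrArg Fin.val h
      simp only [pos] at this
      rw [← List.getElem_idxOf (List.idxOf_lt_length_iff.2 (hkey σ)),
        ← List.getElem_idxOf (List.idxOf_lt_length_iff.2 (hkey τ))]
      simp only [this]
    have heach : ∀ n ∈ frame, img σ n = img τ n := by
      intro n hn
      have a0 := hlt σ f0 hm.1
      have a1 := hlt σ f1 hm.2.1
      have a2 := hlt σ f2 hm.2.2.1
      have a3 := hlt σ f3 hm.2.2.2
      have b0 := hlt τ f0 hm.1
      have b1 := hlt τ f1 hm.2.1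
      have b2 := hlt τ f2 hm.2.2.1
      have b3 := hlt τ f3 hm.2.2.2
      simp only [key] at hk
      rw [hf] at hn
      simp only [List.mem_cons, List.not_mem_nil, or_false] at hn
      rcases hn with rfl | rfl | rfl | rfl <;> omega
    have h1 : (τ⁻¹ * σ).1 = 1 := by
      refine eq_one_of_frame (τ⁻¹ * σ).2.1 fun n hn => ?_
      have e : σ.1 (node n) = τ.1 (node n) := Fin.ext (heach n hn)
      rw [Subgroup.coe_mul, Subgroup.coe_inv, Equiv.Perm.mul_apply, e, ← Equiv.Perm.mul_apply,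
        inv_mul_cancel]
      rfl
    have h2 : τ⁻¹ * σ = 1 := Subtype.ext h1
    exact (inv_mul_eq_one.1 h2).symm
  calc Nat.card ↥planeAut ≤ Nat.card (Fin quads.length) := Nat.card_le_card_of_injective pos hinj
    _ = 5616 := by rw [Nat.card_eq_fintype_card, Fintype.card_fin, quads_length]

end Cfsg.Agent.Lead.CommGraph
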