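import Cfsg.Agent.Lib.Lead.CommGraph.Cent
import Cfsg.Agent.Lib.Lead.CommGraph.Incidence

/-!
A group whose commuting graph is that of `SL(3,3)` is `SL(3,3)`.
-/

set_option autoImplicit false

namespace Cfsg.Agent.Lead.CommGraph

/-- a bijection respecting the identity and commutation -/
structure CommEquiv (H : Type*) [Group H] where
  /-- the bijection -/
  e : H ≃ SLThree
  e_one : e 1 = 1
  comm : ∀ x y : H, Commute (e x) (e y) ↔ Commute x y

namespace CommEquiv

variable {H : Type*} [Group H] (E : CommEquiv H)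

theorem isBig_iff' (x : H) : IsBig x ↔ IsBig (E.e x) := by
  have h1 : x ≠ 1 ↔ E.e x ≠ 1 := by rw [not_iff_not, ← E.e_one, E.e.apply_eq_iff_eq]
  have h2 : Nat.card {y : H // Commute x y} = Nat.card {y : SLThree // Commute (E.e x) y} :=
    Nat.card_congr (E.e.subtypeEquiv fun y => (E.comm x y).symm)
  rw [IsBig, IsBig, h2, h1]

/-- the vertices -/
def pt (t : Fin 104) : H := E.e.symm (tv t)

theorem pt_injective : Function.Injective E.pt := E.e.symm.injective.comp tv_injective

theorem comm_pt_right (x : H) (t : Fin 104) : Commute x (E.pt t) ↔ Commute (E.e x) (tv t) := by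
  rw [← E.comm, pt, Equiv.apply_symm_apply]

theorem comm_pt (s t : Fin 104) : Commute (E.pt s) (E.pt t) ↔ cAdj s t := by
  rw [comm_pt_right, pt, Equiv.apply_symm_apply, commute_tv]

theorem conj_pt (h : H) (t : Fin 104) : ∃ s, h * E.pt t * h⁻¹ = E.pt s := by
  have hb : IsBig (E.pt t) := by
    rw [E.isBig_iff', pt, Equiv.apply_symm_apply]
    exact (isBig_iff _).2 ⟨t, rfl⟩
  obtain ⟨s, hs⟩ := (isBig_iff _).1 ((E.isBig_iff' _).1 (isBig_conj h _ hb))
  exact ⟨s, by conv_rhs => rw [pt, ← hs, Equiv.symm_apply_apply]⟩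

/-- conjugation on the vertices -/
noncomputable def mv (h : H) (t : Fin 104) : Fin 104 := (E.conj_pt h t).choose

theorem pt_mv (h : H) (t : Fin 104) : E.pt (E.mv h t) = h * E.pt t * h⁻¹ :=
  (E.conj_pt h t).choose_spec.symm

theorem mv_adj (h : H) (s t : Fin 104) : cAdj (E.mv h s) (E.mv h t) ↔ cAdj s t := by
  rw [← E.comm_pt, ← E.comm_pt, E.pt_mv, E.pt_mv]
  constructor
  · intro hc
    simpa [mul_assoc] using hc.map (MulAut.conj h⁻¹).toMonoidHom
  · exact fun hc => hc.map (MulAut.conj h).toMonoidHom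

theorem mv_one (t : Fin 104) : E.mv 1 t = t := E.pt_injective (by rw [E.pt_mv]; simp)

theorem mv_mul (g h : H) (t : Fin 104) : E.mv (g * h) t = E.mv g (E.mv h t) :=
  E.pt_injective (by rw [E.pt_mv, E.pt_mv, E.pt_mv]; group)

theorem mv_surj (h : H) (u : Fin 104) : ∃ t, E.mv h t = u :=
  ⟨E.mv h⁻¹ u, by rw [← E.mv_mul, mul_inv_cancel, E.mv_one]⟩

theorem exists_image (h : H) (i : Fin 26) : ∃ j : Fin 26, ∀ t, cMem j (E.mv h t) ↔ cMem i t := by
  obtain ⟨hab, hwa, hwb⟩ := gen_adj i
  have hsym : ∀ a b : Fin 104, cAdj a b ↔ cAdj b a := fun a b => ⟨adj_symm a b, adj_symm b a⟩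
  rcases pair_cases _ _ ((E.mv_adj h _ _).2 hab) with hl | hl
  · obtain ⟨n, hn, he⟩ := List.mem_iff_getElem.1 hl
    refine ⟨⟨n, clique_len ▸ hn⟩, fun t => ?_⟩
    have e : look cliqueList n = look commList (E.mv h (genA i)) &&& look commList (E.mv h (genB i)) := by
      rw [look, List.getD_eq_getElem _ _ hn, he]
    rw [mem_iff_gen i t, cMem]
    show (look cliqueList n).testBit _ = true ↔ _
    rw [e, Nat.testBit_and, Bool.and_eq_true, hsym t, hsym t]
    show cAdj _ _ ∧ cAdj _ _ ↔ _
    rw [E.mv_adj, E.mv_adj]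
  · exfalso
    have h1 : cAdj (E.mv h (genA i)) (E.mv h (genW i)) := (E.mv_adj h _ _).2 (adj_symm _ _ hwa)
    have h2 : (look commList (E.mv h (genA i)) &&& look commList (E.mv h (genB i))).testBit
        (E.mv h (genW i)) = true := by rw [hl]; exact h1
    rw [Nat.testBit_and, Bool.and_eq_true] at h2
    exact hwb (adj_symm _ _ ((E.mv_adj h _ _).1 h2.2))

/-- conjugation on the cliques -/
noncomputable def cmv (h : H) (i : Fin 26) : Fin 26 := (E.exists_image h i).choose

theorem cmv_spec (h : H) (i : Fin 26) (t : Fin 104) : cMem (E.cmv h i) (E.mv h t) ↔ cMem i t :=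
  (E.exists_image h i).choose_spec t

theorem cmv_one (i : Fin 26) : E.cmv 1 i = i :=
  clique_ext _ _ fun t => by
    have := E.cmv_spec 1 i t
    rwa [E.mv_one] at this

theorem cmv_mul (g h : H) (i : Fin 26) : E.cmv (g * h) i = E.cmv g (E.cmv h i) :=
  clique_ext _ _ fun u => by
    obtain ⟨t, rfl⟩ := E.mv_surj (g * h) u
    rw [E.cmv_spec, E.mv_mul, E.cmv_spec, E.cmv_spec]

/-- conjugation on the cliques, as a homomorphism -/
noncomputable def act : H →* Equiv.Perm (Fin 26) where
  toFun h :=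
    { toFun := E.cmv h
      invFun := E.cmv h⁻¹
      left_inv := fun i => by rw [← E.cmv_mul, inv_mul_cancel, E.cmv_one]
      right_inv := fun i => by rw [← E.cmv_mul, mul_inv_cancel, E.cmv_one] }
  map_one' := Equiv.ext E.cmv_one
  map_mul' g h := Equiv.ext fun i => E.cmv_mul g h i

theorem iAdj_iff_mem (i j : Fin 26) : iAdj i j ↔ i ≠ j ∧ ∃ t : Fin 104, cMem i t ∧ cMem j t := by
  have key : ∀ i j : Fin 26, i ≠ j →
      (cliqueList.getD i 0 &&& cliqueList.getD j 0 ≠ 0 ↔ ∃ t : Fin 104, cMem i t ∧ cMem j t) := by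
    decide +kernel
  exact and_congr_right fun h => key i j h

theorem act_mem (h : H) : E.act h ∈ incAut := by
  intro i j
  rw [iAdj_iff_mem, iAdj_iff_mem]
  refine and_congr (not_congr (E.act h).injective.eq_iff) ⟨?_, ?_⟩
  · rintro ⟨u, hu1, hu2⟩
    obtain ⟨t, rfl⟩ := E.mv_surj h u
    exact ⟨t, (E.cmv_spec h i t).1 hu1, (E.cmv_spec h j t).1 hu2⟩
  · rintro ⟨t, h1, h2⟩
    exact ⟨E.mv h t, (E.cmv_spec h i t).2 h1, (E.cmv_spec h j t).2 h2⟩

theorem ker_mem {h : H} (hh : h ∈ E.act.ker) (i : Fin 26) (t : Fin 104) :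
    cMem i (E.mv h t) ↔ cMem i t := by
  have e : E.cmv h i = i := congrFun (congrArg DFunLike.coe (MonoidHom.mem_ker.1 hh)) i
  simpa [e] using E.cmv_spec h i t

theorem clique_cent {x : H} (i : Fin 26) (ha : Commute x (E.pt (genA i))) (hb : Commute x (E.pt (genB i))) :
    x = 1 ∨ ∃ t, cMem i t ∧ x = E.pt t := by
  rcases clique_centralizer i ((E.comm_pt_right _ _).1 ha) ((E.comm_pt_right _ _).1 hb) with h | ⟨t, ht, h⟩
  · exact Or.inl (E.e.injective (h.trans E.e_one.symm))
  · exact Or.inr ⟨t, ht, by rw [pt, ← h, Equiv.symm_apply_apply]⟩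

theorem comm_gen {i : Fin 26} {t : Fin 104} (ht : cMem i t) :
    Commute (E.pt t) (E.pt (genA i)) ∧ Commute (E.pt t) (E.pt (genB i)) := by
  rw [E.comm_pt, E.comm_pt]
  exact (mem_iff_gen i t).1 ht

theorem genA_mem (i : Fin 26) : cMem i (genA i) := by
  revert i; decide +kernel

/-- if `k` fixes the clique `i` and `c` lies in it, then the commutator centralises it -/
theorem comm_elem {k : H} (hk : k ∈ E.act.ker) {i : Fin 26} {c : Fin 104} (hc : cMem i c) :
    k * E.pt c * k⁻¹ * (E.pt c)⁻¹ = 1 ∨ ∃ t, cMem i t ∧ k * E.pt c * k⁻¹ * (E.pt c)⁻¹ = E.pt t := by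
  obtain ⟨a1, b1⟩ := E.comm_gen hc
  obtain ⟨a2, b2⟩ := E.comm_gen ((E.ker_mem hk i c).2 hc)
  rw [E.pt_mv] at a2 b2
  exact E.clique_cent i (a2.mul_left a1.inv_left) (b2.mul_left b1.inv_left)

theorem no_vertex_in_ker (u : Fin 104) : E.pt u ∉ E.act.ker := by
  intro hk
  have hci := cIn_mem u
  set i := cIn u with hi
  set j := cOff u with hj
  have hcj : cMem j (genA j) := genA_mem j
  set k := E.pt u with hkdef
  have hd : k * E.pt (genA j) * k⁻¹ * (E.pt (genA j))⁻¹ ∈ E.act.ker := by
    have h2 : E.pt (genA j) * k⁻¹ * (E.pt (genA j))⁻¹ ∈ E.act.ker :=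
      (MonoidHom.normal_ker E.act).conj_mem _ (inv_mem hk) _
    have := mul_mem hk h2
    simpa [mul_assoc] using this
  rcases E.comm_elem hk hcj with h1 | ⟨w, hw, hwe⟩
  · refine cOff_away u _ hcj (adj_symm _ _ ((E.comm_pt _ _).1 ?_))
    show k * E.pt (genA j) = E.pt (genA j) * k
    rw [mul_inv_eq_one] at h1
    exact mul_inv_eq_iff_eq_mul.1 h1
  · rw [hwe] at hd
    have hnc : ¬ Commute (E.pt w) k := fun hc => cOff_away u w hw ((E.comm_pt _ _).1 hc)
    -- the commutator of `k` and `pt w` centralises both cliques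
    have hj2 := E.comm_elem hk hw
    obtain ⟨a1, b1⟩ := E.comm_gen hci
    obtain ⟨a2, b2⟩ := E.comm_gen ((E.ker_mem hd i u).2 hci)
    rw [E.pt_mv] at a2 b2
    have hi2 := E.clique_cent i (x := k * (E.pt w * k⁻¹ * (E.pt w)⁻¹))
      (a1.mul_left (by simpa [mul_assoc] using a2.inv_left))
      (b1.mul_left (by simpa [mul_assoc] using b2.inv_left))
    rw [← mul_assoc, ← mul_assoc] at hi2
    rcases hj2 with h1 | ⟨t, ht, hte⟩
    · rw [mul_inv_eq_one] at h1
      exact hnc (mul_inv_eq_iff_eq_mul.1 h1).symm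
    · rcases hi2 with h1 | ⟨t', ht', hte'⟩
      · rw [mul_inv_eq_one] at h1
        exact hnc (mul_inv_eq_iff_eq_mul.1 h1).symm
      · have e : t = t' := E.pt_injective (hte.symm.trans hte')
        subst e
        exact cOff_away u t ht (clique_adj i t ht' u hci)

theorem act_injective : Function.Injective E.act := by
  rw [← MonoidHom.ker_eq_bot_iff, Subgroup.eq_bot_iff_forall]
  intro h hh
  have hall : ∀ t, Commute h (E.pt t) := by
    intro t
    rcases E.comm_elem hh (cIn_mem t) with h1 | ⟨u, -, hu⟩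
    · rw [mul_inv_eq_one] at h1
      exact mul_inv_eq_iff_eq_mul.1 h1
    · refine absurd ?_ (E.no_vertex_in_ker u)
      rw [← hu]
      have h2 : E.pt t * h⁻¹ * (E.pt t)⁻¹ ∈ E.act.ker :=
        (MonoidHom.normal_ker E.act).conj_mem _ (inv_mem hh) _
      simpa [mul_assoc] using mul_mem hh h2
  exact E.e.injective ((commute_all fun t => (E.comm_pt_right _ _).1 (hall t)).trans E.e_one.symm)

theorem range_le : E.act.range ≤ incAut := by
  rintro _ ⟨h, rfl⟩
  exact E.act_mem h

theorem card_range : Nat.card ↥E.act.range = 5616 := by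
  rw [← Nat.card_congr (MonoidHom.ofInjective E.act_injective).toEquiv, Nat.card_congr E.e, card_SLThree]

theorem half_le : 5616 ≤ 2 * Nat.card ↥(E.act.range ⊓ planeAut) := by
  rw [← E.card_range]
  have h : (E.act.range ⊓ planeAut).relIndex E.act.range * Nat.card ↥(E.act.range ⊓ planeAut) =
      Nat.card ↥E.act.range := by
    rw [← Nat.card_congr (Subgroup.subgroupOfEquivOfLe (inf_le_left (a := E.act.range) (b := planeAut))).toEquiv]
    exact Subgroup.index_mul_card _
  have hle : (E.act.range ⊓ planeAut).relIndex E.act.range ≤ 2 := by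
    rw [inf_comm, Subgroup.inf_relIndex_right]
    by_cases hcase : E.act.range ≤ planeAut
    · rw [Subgroup.relIndex_eq_one.2 hcase]; norm_num
    · obtain ⟨a, ha, hna⟩ := SetLike.not_le_iff_exists.1 hcase
      refine le_of_eq (Subgroup.index_eq_two_iff.2 ⟨⟨a, ha⟩, fun b => ?_⟩)
      simp only [Subgroup.mem_subgroupOf, Subgroup.coe_mul]
      by_cases hb : (b : Equiv.Perm (Fin 26)) ∈ planeAut
      · refine Or.inr ⟨hb, fun hc => hna ?_⟩
        have := mul_mem (inv_mem hb) hc
        rwa [inv_mul_cancel_left] at this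
      · exact Or.inl ⟨mul_mem_planeAut (E.range_le b.2) (E.range_le ha) hb hna, hb⟩
  calc Nat.card ↥E.act.range = _ := h.symm
    _ ≤ _ := Nat.mul_le_mul_right _ hle

/-- a subgroup of index at most two of a simple group is everything -/
theorem eq_top_of_index_le_two {G : Type*} [Group G] [Finite G] [IsSimpleGroup G] (hG : 2 < Nat.card G)
    (K : Subgroup G) (hK : K.index ≤ 2) : K = ⊤ := by
  have hpos : 0 < K.index := Nat.pos_of_ne_zero Subgroup.index_ne_zero_of_finite
  rcases Nat.lt_or_eq_of_le hK with h | h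
  · exact Subgroup.index_eq_one.1 (by omega)
  · haveI := Subgroup.normal_of_index_eq_two h
    rcases IsSimpleGroup.eq_bot_or_eq_top_of_normal K inferInstance with hb | hb
    · rw [hb, Subgroup.index_bot] at h; omega
    · exact hb

end CommEquiv

/-- the identity -/
def idEquiv : CommEquiv SLThree where
  e := Equiv.refl _
  e_one := rfl
  comm _ _ := Iff.rfl

theorem range_idEquiv : idEquiv.act.range = planeAut := by
  haveI := simple_SLThree
  have hle : idEquiv.act.range ≤ planeAut := by
    intro x hx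
    obtain ⟨g, rfl⟩ := hx
    have htop : planeAut.comap idEquiv.act = ⊤ := by
      refine CommEquiv.eq_top_of_index_le_two (by rw [card_SLThree]; norm_num) _ ?_
      have h1 := idEquiv.half_le
      have h2 : Nat.card ↥(planeAut.comap idEquiv.act) = Nat.card ↥(idEquiv.act.range ⊓ planeAut) := by
        rw [Nat.card_congr ((planeAut.comap idEquiv.act).equivMapOfInjective _ idEquiv.act_injective).toEquiv,
          Subgroup.map_comap_eq]
      have h3 := (planeAut.comap idEquiv.act).index_mul_card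
      rw [card_SLThree, h2] at h3
      by_contra hc
      have h4 : 3 * Nat.card ↥(idEquiv.act.range ⊓ planeAut) ≤ 5616 := by
        rw [← h3]; exact Nat.mul_le_mul_right _ (by omega)
      omega
    exact (htop ▸ Subgroup.mem_top g : g ∈ planeAut.comap idEquiv.act)
  exact Subgroup.eq_of_le_of_card_ge hle (by rw [idEquiv.card_range]; exact card_planeAut_le)

theorem iso_of_commEquiv {H : Type*} [Group H] (E : CommEquiv H) : Nonempty (H ≃* SLThree) := by
  haveI := simple_SLThree
  let g : SLThree ≃* ↥planeAut :=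
    (MonoidHom.ofInjective idEquiv.act_injective).trans (MulEquiv.subgroupCongr range_idEquiv)
  haveI : IsSimpleGroup ↥planeAut := by
    haveI : Nontrivial ↥planeAut := g.symm.toEquiv.nontrivial
    exact IsSimpleGroup.isSimpleGroup_of_surjective g.toMonoidHom g.surjective
  have hc : Nat.card ↥planeAut = 5616 := by rw [← Nat.card_congr g.toEquiv, card_SLThree]
  have hidx : (E.act.range.subgroupOf planeAut).index ≤ 2 := by
    have h1 := E.half_le
    have h2 : Nat.card ↥(E.act.range.subgroupOf planeAut) = Nat.card ↥(E.act.range ⊓ planeAut) := by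
      rw [← Subgroup.inf_subgroupOf_right]
      exact Nat.card_congr (Subgroup.subgroupOfEquivOfLe inf_le_right).toEquiv
    have h3 := (E.act.range.subgroupOf planeAut).index_mul_card
    rw [hc, h2] at h3
    by_contra hcon
    have h4 : 3 * Nat.card ↥(E.act.range ⊓ planeAut) ≤ 5616 := by
      rw [← h3]; exact Nat.mul_le_mul_right _ (by omega)
    omega
  have htop := CommEquiv.eq_top_of_index_le_two (by rw [hc]; norm_num) _ hidx
  have hle : planeAut ≤ E.act.range := Subgroup.subgroupOf_eq_top.1 htop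
  have heq : planeAut = E.act.range :=
    Subgroup.eq_of_le_of_card_ge hle (by rw [E.card_range, hc])
  exact ⟨((MonoidHom.ofInjective E.act_injective).trans (MulEquiv.subgroupCongr heq.symm)).trans g.symm⟩

end Cfsg.Agent.Lead.CommGraph
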