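import Cfsg.Agent.Lib.Lead.CommGraph.Model
import Cfsg.Agent.Lib.Local.FS.SimplePSL3
import Cfsg.Agent.Lib.Small.PSLn.Simple
import Cfsg.Agent.Lib.Lead.GLBasic

/-!
Centralisers of transvections of `SL(3,3)`.
-/

set_option autoImplicit false

namespace Cfsg.Agent.Lead.CommGraph

open Matrix

theorem card_SLThree : Nat.card SLThree = 5616 := by
  have h := Cfsg.Agent.Local.FS.PSL3Simple.card_SL3 (F := ZMod 3)
  rw [ZMod.card] at h
  generalize Nat.card SLThree = N at h ⊢
  norm_num at h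
  omega

theorem center_SLThree : Subgroup.center SLThree = ⊥ := by
  haveI : Nonempty (Fin 3) := ⟨0⟩
  refine Subgroup.eq_bot_of_card_eq _ ?_
  rw [Cfsg.Agent.Lead.GLBasic.card_center_SL 3, ZMod.card]
  rfl

/-- `SL(3,3)` is its own projective group -/
noncomputable def toPSL : SLThree ≃* Matrix.ProjectiveSpecialLinearGroup (Fin 3) (ZMod 3) :=
  MulEquiv.ofBijective (QuotientGroup.mk' (Subgroup.center SLThree))
    ⟨by
      rw [← MonoidHom.ker_eq_bot_iff, QuotientGroup.ker_mk']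
      exact center_SLThree, QuotientGroup.mk'_surjective _⟩

theorem simple_SLThree : IsSimpleGroup SLThree := by
  haveI := Cfsg.Agent.Small.PSLn.psl_simple (F := ZMod 3) (n := 3) le_rfl
  haveI : Nontrivial SLThree := toPSL.toEquiv.nontrivial
  exact IsSimpleGroup.isSimpleGroup_of_surjective toPSL.symm.toMonoidHom toPSL.symm.surjective

/-- `x` is centralised by a subgroup of order 27 -/
def IsBig {G : Type*} [Group G] (x : G) : Prop := x ≠ 1 ∧ 27 ∣ Nat.card {y : G // Commute x y}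

theorem card_commute_eq {G : Type*} [Group G] (x : G) :
    Nat.card {y : G // Commute x y} = Nat.card ↥(Subgroup.centralizer ({x} : Set G)) :=
  Nat.card_congr (Equiv.subtypeEquivRight fun y => by
    rw [Subgroup.mem_centralizer_singleton_iff]
    exact ⟨fun h => h.eq.symm, fun h => h.symm⟩)

theorem isBig_conj {G : Type*} [Group G] (g x : G) (h : IsBig x) : IsBig (g * x * g⁻¹) := by
  refine ⟨by simpa using h.1, ?_⟩
  refine h.2.trans (dvd_of_eq (Nat.card_congr ((MulAut.conj g).toEquiv.subtypeEquiv fun y => ?_)))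
  show Commute x y ↔ Commute (g * x * g⁻¹) (g * y * g⁻¹)
  constructor
  · exact fun hc => hc.map (MulAut.conj g).toMonoidHom
  · intro hc
    simpa [mul_assoc] using hc.map (MulAut.conj g⁻¹).toMonoidHom

/-- the upper unitriangular matrices -/
def triU : Subgroup SLThree where
  carrier := {g | g.1 0 0 = 1 ∧ g.1 1 1 = 1 ∧ g.1 2 2 = 1 ∧ g.1 1 0 = 0 ∧ g.1 2 0 = 0 ∧ g.1 2 1 = 0}
  mul_mem' {a b} ha hb := by
    obtain ⟨a0, a1, a2, a3, a4, a5⟩ := ha
    obtain ⟨b0, b1, b2, b3, b4, b5⟩ := hb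
    simp [Matrix.SpecialLinearGroup.coe_mul, Matrix.mul_apply, Fin.sum_univ_three, a0, a1, a2, a3, a4, a5,
      b0, b1, b2, b3, b4, b5]
  one_mem' := by simp
  inv_mem' {a} ha := by
    obtain ⟨a0, a1, a2, a3, a4, a5⟩ := ha
    have h := congrArg Subtype.val (mul_inv_cancel a)
    rw [Matrix.SpecialLinearGroup.coe_mul, Matrix.SpecialLinearGroup.coe_one] at h
    have e : ∀ i j, (a.1 * (a⁻¹ : SLThree).1) i j = (1 : Matrix (Fin 3) (Fin 3) (ZMod 3)) i j :=
      fun i j => congrFun (congrFun h i) j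
    have e20 := e 2 0
    have e21 := e 2 1
    have e22 := e 2 2
    have e10 := e 1 0
    have e11 := e 1 1
    have e00 := e 0 0
    simp [Matrix.mul_apply, Fin.sum_univ_three, a0, a1, a2, a3, a4, a5] at e20 e21 e22
    simp [Matrix.mul_apply, Fin.sum_univ_three, a0, a1, a2, a3, a4, a5, e20, e21, e22] at e10 e11
    simp [Matrix.mul_apply, Fin.sum_univ_three, a0, a1, a2, a3, a4, a5, e20, e21, e22, e10, e11] at e00
    exact ⟨e00, e11, e22, e10, e20, e21⟩

theorem triU_pgroup : IsPGroup 3 ↥triU := by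
  rintro ⟨g, a0, a1, a2, a3, a4, a5⟩
  refine ⟨1, Subtype.ext (Subtype.ext ?_)⟩
  have h3 : (3 : ZMod 3) = 0 := by decide
  show ((g ^ 3 ^ 1 : SLThree)).1 = _
  rw [pow_one, pow_succ, pow_two, Matrix.SpecialLinearGroup.coe_mul, Matrix.SpecialLinearGroup.coe_mul]
  ext i j
  fin_cases i <;> fin_cases j <;>
    simp [Matrix.mul_apply, Fin.sum_univ_three, a0, a1, a2, a3, a4, a5] <;> ring_nf <;> simp [h3]

/-- the elementary generators -/
def uSL (k : Fin 2) : SLThree :=
  if k = 0 then ⟨tmat (vec 1) (vec 3), by decide +kernel⟩ else ⟨tmat (vec 3) (vec 9), by decide +kernel⟩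

theorem uSL_mem : ∀ k, uSL k ∈ triU := by
  intro k
  show (uSL k).1 0 0 = 1 ∧ (uSL k).1 1 1 = 1 ∧ (uSL k).1 2 2 = 1 ∧ (uSL k).1 1 0 = 0 ∧ (uSL k).1 2 0 = 0 ∧
    (uSL k).1 2 1 = 0
  revert k
  decide +kernel

theorem elem_val : (zSL).1 = !![1, 0, 1; 0, 1, 0; 0, 0, 1] ∧ (uSL 0).1 = !![1, 1, 0; 0, 1, 0; 0, 0, 1] ∧
    (uSL 1).1 = !![1, 0, 0; 0, 1, 1; 0, 0, 1] := by
  decide +kernel

theorem shape_two {x : SLThree} (h0 : Commute x (uSL 0)) (h1 : Commute x (uSL 1)) :
    x.1 1 0 = 0 ∧ x.1 2 0 = 0 ∧ x.1 2 1 = 0 ∧ x.1 1 1 = x.1 0 0 ∧ x.1 2 2 = x.1 0 0 ∧ x.1 0 1 = x.1 1 2 := by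
  obtain ⟨-, e0, e1⟩ := elem_val
  have c : ∀ {k : Fin 2} {m : Matrix (Fin 3) (Fin 3) (ZMod 3)}, (uSL k).1 = m → Commute x (uSL k) →
      ∀ i j, (x.1 * m) i j = (m * x.1) i j := fun e h i j => by
    rw [← e]; exact congrFun (congrFun (congrArg Subtype.val h.eq) i) j
  have f := c e0 h0
  have g := c e1 h1
  have f00 := f 0 0
  have f01 := f 0 1
  have f21 := f 2 1
  have g12 := g 1 2
  have g02 := g 0 2
  have f02 := f 0 2
  have g11 := g 1 1
  simp [Matrix.mul_apply, Fin.sum_univ_three] at f00 f01 f21 g12 g02 f02 g11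
  refine ⟨?_, ?_, ?_, ?_, ?_, ?_⟩ <;> grind

theorem tmat_zero_iff (v φ : Fin 3 → ZMod 3) :
    tmat v φ = 1 ↔ v = 0 ∨ φ = 0 := by
  rw [tmat, add_eq_left]
  constructor
  · intro h
    by_contra hc
    push Not at hc
    obtain ⟨i, hi⟩ := Function.ne_iff.1 hc.1
    obtain ⟨j, hj⟩ := Function.ne_iff.1 hc.2
    exact mul_ne_zero hi hj (congrFun (congrFun h i) j)
  · rintro (rfl | rfl) <;> simp

theorem rank_one_tv {x : SLThree} {v φ : Fin 3 → ZMod 3} (hx : x.1 = tmat v φ) (h : φ ⬝ᵥ v = 0) :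
    x = 1 ∨ ∃ t, x = tv t := by
  by_cases hv : v = 0 ∨ φ = 0
  · exact Or.inl (Subtype.ext (by rw [hx, (tmat_zero_iff v φ).2 hv]; rfl))
  · push Not at hv
    obtain ⟨t, ht⟩ := exists_tv v φ hv.1 hv.2 h
    exact Or.inr ⟨t, Subtype.ext (hx.trans ht.symm)⟩

theorem cube_eq : ∀ a : ZMod 3, a * a * a = a := by decide

theorem upper_det {x : SLThree} (h10 : x.1 1 0 = 0) (h20 : x.1 2 0 = 0) (h21 : x.1 2 1 = 0)
    (h11 : x.1 1 1 = x.1 0 0) (h22 : x.1 2 2 = x.1 0 0) : x.1 0 0 = 1 := by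
  have h := x.2
  rw [Matrix.det_fin_three, h10, h20, h21, h11, h22] at h
  simp at h
  rwa [cube_eq] at h

theorem center_two_conj {x : SLThree} (h0 : Commute x (uSL 0)) (h1 : Commute x (uSL 1))
    (hz : Commute x zSL) : x.1 0 1 = 0 → x = 1 ∨ ∃ t, x = tv t := by
  intro h01
  obtain ⟨a, b, c, d, e, f⟩ := shape_two h0 h1
  have h := upper_det a b c d e
  refine rank_one_tv (v := vec 1) (φ := ![0, 0, x.1 0 2]) ?_ ?_
  · ext i j
    fin_cases i <;> fin_cases j <;>
      simp [tmat, vec, Matrix.vecMulVec_apply, a, b, c, d, e, h, ← f, h01]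
  · simp [vec, dotProduct, Fin.sum_univ_three]

theorem commute_uSL {x : SLThree} (h0 : Commute x (uSL 0)) (h1 : Commute x (uSL 1)) :
    x = 1 ∨ ∃ t, x = tv t := by
  obtain ⟨a, b, c, d, e, f⟩ := shape_two h0 h1
  obtain ⟨-, -, e1⟩ := elem_val
  have g := congrFun (congrFun (congrArg Subtype.val h1.eq) 0) 2
  rw [Matrix.SpecialLinearGroup.coe_mul, Matrix.SpecialLinearGroup.coe_mul, e1] at g
  simp [Matrix.mul_apply, Fin.sum_univ_three] at g
  have hz : Commute x zSL := by
    refine Subtype.ext ?_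
    show x.1 * zSL.1 = zSL.1 * x.1
    rw [elem_val.1]
    ext i j
    fin_cases i <;> fin_cases j <;> simp [Matrix.mul_apply, Fin.sum_univ_three, a, b, c, e, add_comm]
  exact center_two_conj h0 h1 hz g

theorem sylow_card (P : Sylow 3 SLThree) : Nat.card ↥(P : Subgroup SLThree) = 27 := by
  haveI : Fact (Nat.Prime 3) := ⟨by norm_num⟩
  have h1 := P.card_eq_multiplicity
  rw [card_SLThree] at h1
  have h2 : (5616 : ℕ).factorization 3 = 3 := by
    have e : (5616 : ℕ) = 3 ^ 3 * 208 := by norm_num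
    rw [e, Nat.factorization_mul (by norm_num) (by norm_num)]
    rw [Finsupp.add_apply, Nat.Prime.factorization_pow Nat.prime_three, Finsupp.single_eq_same,
      Nat.factorization_eq_zero_of_not_dvd (show ¬ 3 ∣ 208 by norm_num)]
  rw [h1, h2]; norm_num

theorem isBig_imp {x : SLThree} (h : IsBig x) : ∃ t, x = tv t := by
  haveI : Fact (Nat.Prime 3) := ⟨by norm_num⟩
  obtain ⟨hne, hd⟩ := h
  rw [card_commute_eq] at hd
  obtain ⟨K, hK⟩ := Sylow.exists_subgroup_card_pow_prime (G := ↥(Subgroup.centralizer ({x} : Set SLThree))) 3 (n := 3) hd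
  let P₀ := K.map (Subgroup.centralizer ({x} : Set SLThree)).subtype
  have hP₀ : Nat.card ↥P₀ = 3 ^ 3 := by
    rw [← hK]
    exact Nat.card_congr (K.equivMapOfInjective _ (Subgroup.subtype_injective _)).symm.toEquiv
  obtain ⟨P, hP⟩ := (IsPGroup.of_card hP₀).exists_le_sylow
  have hPeq : P₀ = (P : Subgroup SLThree) := Subgroup.eq_of_le_of_card_ge hP (by rw [sylow_card, hP₀]; norm_num)
  obtain ⟨Q, hQ⟩ := triU_pgroup.exists_le_sylow
  obtain ⟨g, hg⟩ := MulAction.exists_smul_eq SLThree P Q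
  have hcomm : ∀ k, Commute (g * x * g⁻¹) (uSL k) := by
    intro k
    have hk : uSL k ∈ ((g • P : Sylow 3 SLThree) : Subgroup SLThree) := by rw [hg]; exact hQ (uSL_mem k)
    rw [Sylow.coe_subgroup_smul, Subgroup.mem_pointwise_smul_iff_inv_smul_mem] at hk
    have hk' : g⁻¹ * uSL k * g ∈ P₀ := by
      rw [hPeq]
      simpa [MulAut.smul_def, MulAut.inv_apply, mul_assoc] using hk
    obtain ⟨y, -, hy⟩ := hk'
    have hc : Commute x (g⁻¹ * uSL k * g) := by
      rw [← hy]
      exact (Subgroup.mem_centralizer_singleton_iff.1 y.2).symm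
    simpa [mul_assoc] using hc.map (MulAut.conj g).toMonoidHom
  rcases commute_uSL (hcomm 0) (hcomm 1) with h1 | ⟨t, ht⟩
  · exact absurd (conj_eq_one_iff.1 h1) hne
  · obtain ⟨s, hs⟩ := exists_tv_conj g⁻¹ t
    exact ⟨s, by rw [← hs, ← ht]; group⟩

theorem exists_big : ∃ x : SLThree, IsBig x := by
  haveI : Fact (Nat.Prime 3) := ⟨by norm_num⟩
  obtain ⟨P⟩ : Nonempty (Sylow 3 SLThree) := inferInstance
  haveI : Nontrivial ↥(P : Subgroup SLThree) := by
    rw [← Finite.one_lt_card_iff_nontrivial, sylow_card]; norm_num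
  haveI := P.2.center_nontrivial
  obtain ⟨⟨c, hc⟩, hne⟩ := exists_ne (1 : Subgroup.center ↥(P : Subgroup SLThree))
  refine ⟨c.1, fun e => hne (Subtype.ext (Subtype.ext e)), ?_⟩
  rw [card_commute_eq, ← sylow_card P]
  refine Subgroup.card_dvd_of_le fun y hy => ?_
  rw [Subgroup.mem_centralizer_singleton_iff]
  exact congrArg Subtype.val (Subgroup.mem_center_iff.1 hc ⟨y, hy⟩)

theorem isBig_iff (x : SLThree) : IsBig x ↔ ∃ t, x = tv t := by
  refine ⟨isBig_imp, ?_⟩
  rintro ⟨t, rfl⟩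
  obtain ⟨y, hy⟩ := exists_big
  obtain ⟨s, rfl⟩ := isBig_imp hy
  obtain ⟨g, hg⟩ := tv_conj_z t
  obtain ⟨g', hg'⟩ := tv_conj_z s
  have h := isBig_conj (g * g'⁻¹) _ hy
  convert h using 1
  rw [hg, hg']
  group

/-- the two generators of a clique have centraliser in that clique -/
theorem clique_centralizer (i : Fin 26) {x : SLThree} (ha : Commute x (tv (genA i)))
    (hb : Commute x (tv (genB i))) : x = 1 ∨ ∃ t, cMem i t ∧ x = tv t := by
  suffices h : x = 1 ∨ ∃ t, x = tv t by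
    rcases h with h | ⟨t, rfl⟩
    · exact Or.inl h
    · exact Or.inr ⟨t, (mem_iff_gen i t).2 ⟨(commute_tv _ _).1 ha, (commute_tv _ _).1 hb⟩, rfl⟩
  obtain ⟨hd, h1, h2⟩ := cG_spec i
  let g : SLThree := ⟨cG i, hd⟩
  have e1 : tv (genA i) = g * zSL * g⁻¹ := eq_mul_inv_iff_mul_eq.2 (Subtype.ext h1.symm)
  have hy : Commute (g⁻¹ * x * g) zSL := by
    rw [e1] at ha
    simpa [mul_assoc] using ha.map (MulAut.conj g⁻¹).toMonoidHom
  have main : (g⁻¹ * x * g) = 1 ∨ ∃ t, (g⁻¹ * x * g) = tv t := by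
    have hk : ∀ i : Fin 26, look pairK i = 0 ∨ look pairK i = 1 := by decide +kernel
    rcases hk i with hk | hk <;> rw [hk] at h2
    · have e2 : tv (genB i) = g * uSL 0 * g⁻¹ := eq_mul_inv_iff_mul_eq.2 (Subtype.ext h2.symm)
      rw [e2] at hb
      have hu : Commute (g⁻¹ * x * g) (uSL 0) := by simpa [mul_assoc] using hb.map (MulAut.conj g⁻¹).toMonoidHom
      generalize g⁻¹ * x * g = y at hy hu ⊢
      have f := fun a b => congrFun (congrFun (congrArg Subtype.val hy.eq) a) b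
      have k := fun a b => congrFun (congrFun (congrArg Subtype.val hu.eq) a) b
      simp only [Matrix.SpecialLinearGroup.coe_mul, elem_val.1, elem_val.2.1] at f k
      have f00 := f 0 0
      have f01 := f 0 1
      have f02 := f 0 2
      have f12 := f 1 2
      have f22 := f 2 2
      have k01 := k 0 1
      have k11 := k 1 1
      have k21 := k 2 1
      have k02 := k 0 2
      simp [Matrix.mul_apply, Fin.sum_univ_three] at f00 f01 f02 f12 f22 k01 k11 k21 k02
      have a10 : y.1 1 0 = 0 := by grind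
      have a20 : y.1 2 0 = 0 := by grind
      have a21 : y.1 2 1 = 0 := by grind
      have a12 : y.1 1 2 = 0 := by grind
      have a11 : y.1 1 1 = y.1 0 0 := by grind
      have a22 : y.1 2 2 = y.1 0 0 := by grind
      have a00 := upper_det a10 a20 a21 a11 a22
      refine rank_one_tv (v := vec 1) (φ := ![0, y.1 0 1, y.1 0 2]) ?_ ?_
      · ext a b
        fin_cases a <;> fin_cases b <;>
          simp [tmat, vec, Matrix.vecMulVec_apply, a10, a20, a21, a12, a11, a22, a00]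
      · simp [vec, dotProduct, Fin.sum_univ_three]
    · have e2 : tv (genB i) = g * uSL 1 * g⁻¹ := eq_mul_inv_iff_mul_eq.2 (Subtype.ext h2.symm)
      rw [e2] at hb
      have hu : Commute (g⁻¹ * x * g) (uSL 1) := by simpa [mul_assoc] using hb.map (MulAut.conj g⁻¹).toMonoidHom
      generalize g⁻¹ * x * g = y at hy hu ⊢
      have f := fun a b => congrFun (congrFun (congrArg Subtype.val hy.eq) a) b
      have k := fun a b => congrFun (congrFun (congrArg Subtype.val hu.eq) a) b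
      simp only [Matrix.SpecialLinearGroup.coe_mul, elem_val.1, elem_val.2.2] at f k
      have f00 := f 0 0
      have f01 := f 0 1
      have f02 := f 0 2
      have f12 := f 1 2
      have k10 := k 1 0
      have k11 := k 1 1
      have k12 := k 1 2
      have k02 := k 0 2
      simp [Matrix.mul_apply, Fin.sum_univ_three] at f00 f01 f02 f12 k10 k11 k12 k02
      have a10 : y.1 1 0 = 0 := by grind
      have a20 : y.1 2 0 = 0 := by grind
      have a21 : y.1 2 1 = 0 := by grind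
      have a01 : y.1 0 1 = 0 := by grind
      have a11 : y.1 1 1 = y.1 0 0 := by grind
      have a22 : y.1 2 2 = y.1 0 0 := by grind
      have a00 := upper_det a10 a20 a21 a11 a22
      refine rank_one_tv (v := ![y.1 0 2, y.1 1 2, 0]) (φ := vec 9) ?_ ?_
      · ext a b
        rw [tmat, Matrix.add_apply, Matrix.vecMulVec_apply]
        fin_cases a <;> fin_cases b <;>
          simp [vec, a10, a20, a21, a01, a11, a22, a00, show (9 : ZMod 3) = 0 by decide, show (3 : ZMod 3) = 0 by decide]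
      · simp [vec, dotProduct, Fin.sum_univ_three, show (9 : ZMod 3) = 0 by decide, show (3 : ZMod 3) = 0 by decide]
  rcases main with h | ⟨t, ht⟩
  · left
    calc x = g * (g⁻¹ * x * g) * g⁻¹ := by group
      _ = 1 := by rw [h]; group
  · obtain ⟨s, hs⟩ := exists_tv_conj g t
    exact Or.inr ⟨s, by rw [← hs, ← ht]; group⟩

theorem commute_all {x : SLThree} (h : ∀ t, Commute x (tv t)) : x = 1 := by
  rcases clique_centralizer 0 (h _) (h _) with h1 | ⟨t, -, rfl⟩
  · exact h1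
  · obtain ⟨s, hs⟩ := exists_not_adj t
    exact absurd (adj_symm _ _ ((commute_tv _ _).1 (h s))) hs

end Cfsg.Agent.Lead.CommGraph
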