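import Mathlib
import Cfsg.Agent.Lib.Lead.CommGraph.Data

/-!
Transvections of `SL(3,3)` and their commutation.
-/

set_option autoImplicit false

namespace Cfsg.Agent.Lead.CommGraph

/-- `SL(3,3)` -/
abbrev SLThree := Matrix.SpecialLinearGroup (Fin 3) (ZMod 3)

/-- table lookup -/
def look (l : List ℕ) (i : ℕ) : ℕ := l.getD i 0

/-- vector with a given code -/
def vec (k : ℕ) : Fin 3 → ZMod 3 := fun i => ((k / 3 ^ (i : ℕ) : ℕ) : ZMod 3)

/-- the code of a vector -/
def code (v : Fin 3 → ZMod 3) : ℕ := (v 0).val + 3 * (v 1).val + 9 * (v 2).val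

/-- matrix with a given code -/
def matOf (k : ℕ) : Matrix (Fin 3) (Fin 3) (ZMod 3) :=
  fun i j => ((k / 3 ^ (3 * (i : ℕ) + (j : ℕ)) : ℕ) : ZMod 3)

/-- `1 + v φ` -/
def tmat (v φ : Fin 3 → ZMod 3) : Matrix (Fin 3) (Fin 3) (ZMod 3) := 1 + Matrix.vecMulVec v φ

/-- centre of transvection `t` -/
def vC (t : Fin 104) : Fin 3 → ZMod 3 := vec (look vList t)

/-- axis of transvection `t` -/
def phiC (t : Fin 104) : Fin 3 → ZMod 3 := vec (look phiList t)

theorem tv_det : ∀ t : Fin 104, (tmat (vC t) (phiC t)).det = 1 := by decide +kernel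

/-- the transvections -/
def tv (t : Fin 104) : SLThree := ⟨tmat (vC t) (phiC t), tv_det t⟩

theorem tv_val (t : Fin 104) : (tv t).1 = tmat (vC t) (phiC t) := rfl

/-- the code of a matrix -/
def mcode (m : Matrix (Fin 3) (Fin 3) (ZMod 3)) : ℕ :=
  (m 0 0).val + 3 * ((m 0 1).val + 3 * ((m 0 2).val + 3 * ((m 1 0).val + 3 * ((m 1 1).val +
    3 * ((m 1 2).val + 3 * ((m 2 0).val + 3 * ((m 2 1).val + 3 * (m 2 2).val)))))))

theorem mcode_tv : ∀ t : Fin 104, mcode (tmat (vC t) (phiC t)) = look codeList t := by decide +kernel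

theorem codeList_inj : ∀ s t : Fin 104, look codeList s = look codeList t → s = t := by decide +kernel

theorem tv_injective : Function.Injective tv := fun s t h => codeList_inj s t (by
  rw [← mcode_tv s, ← mcode_tv t, ← tv_val, ← tv_val, h])

theorem tv_ne_one (t : Fin 104) : tv t ≠ 1 := by
  have key : ∀ t : Fin 104, look codeList t ≠ mcode (1 : Matrix (Fin 3) (Fin 3) (ZMod 3)) := by
    decide +kernel
  intro h
  refine key t ?_
  rw [← mcode_tv, ← tv_val, h, Matrix.SpecialLinearGroup.coe_one]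

/-- the commutation table -/
def cAdj (s t : Fin 104) : Prop := (look commList s).testBit t = true

instance (s t : Fin 104) : Decidable (cAdj s t) := inferInstanceAs (Decidable (_ = true))

/-- membership in a clique -/
def cMem (i : Fin 26) (t : Fin 104) : Prop := (look cliqueList i).testBit t = true

instance (i : Fin 26) (t : Fin 104) : Decidable (cMem i t) := inferInstanceAs (Decidable (_ = true))

/-- dot product on codes -/
def dotC (a b : ℕ) : ℕ :=
  ((a % 3) * (b % 3) + (a / 3 % 3) * (b / 3 % 3) + (a / 9 % 3) * (b / 9 % 3)) % 3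

theorem dot_vec (a b : ℕ) : vec a ⬝ᵥ vec b = ((dotC a b : ℕ) : ZMod 3) := by
  simp [vec, dotC, dotProduct, Fin.sum_univ_three, ZMod.natCast_mod]

theorem dot_vec_eq_zero (a b : ℕ) : vec a ⬝ᵥ vec b = 0 ↔ dotC a b = 0 := by
  rw [dot_vec, ZMod.natCast_eq_zero_iff]
  have : dotC a b < 3 := Nat.mod_lt _ (by norm_num)
  constructor
  · intro h; exact Nat.eq_zero_of_dvd_of_lt h this
  · intro h; simp [h]

theorem comm_table : ∀ s t : Fin 104,
    (decide (dotC (look phiList s) (look vList t) = 0) && decide (dotC (look phiList t) (look vList s) = 0)) =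
      (look commList s).testBit t := by
  decide +kernel

theorem tv_nonzero : ∀ t : Fin 104, vC t ≠ 0 ∧ phiC t ≠ 0 ∧ phiC t ⬝ᵥ vC t = 0 := by decide +kernel

theorem tmat_comm_iff {v φ w ψ : Fin 3 → ZMod 3} (hv : v ≠ 0) (hφ : φ ≠ 0) (hw : w ≠ 0) (hψ : ψ ≠ 0)
    (h1 : φ ⬝ᵥ v = 0) :
    tmat v φ * tmat w ψ = tmat w ψ * tmat v φ ↔ φ ⬝ᵥ w = 0 ∧ ψ ⬝ᵥ v = 0 := by
  have e : ∀ (a b c d : Fin 3 → ZMod 3), Matrix.vecMulVec a b * Matrix.vecMulVec c d =
      (b ⬝ᵥ c) • Matrix.vecMulVec a d := fun a b c d => by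
    ext i j
    simp [Matrix.mul_apply, Matrix.vecMulVec_apply, dotProduct, Fin.sum_univ_three]
    ring
  unfold tmat
  have hiff : (1 + Matrix.vecMulVec v φ) * (1 + Matrix.vecMulVec w ψ) =
      (1 + Matrix.vecMulVec w ψ) * (1 + Matrix.vecMulVec v φ) ↔
      (φ ⬝ᵥ w) • Matrix.vecMulVec v ψ = (ψ ⬝ᵥ v) • Matrix.vecMulVec w φ := by
    simp only [Matrix.add_mul, Matrix.mul_add, Matrix.one_mul, Matrix.mul_one, e]
    constructor
    · intro h
      have h' := sub_eq_zero.2 h
      rw [← sub_eq_zero]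
      rw [← h']
      abel
    · intro h; rw [h]; abel
  rw [hiff]
  refine ⟨fun h => ?_, fun h => by simp [h.1, h.2]⟩
  obtain ⟨j, hj⟩ := Function.ne_iff.1 hψ
  obtain ⟨i, hi⟩ := Function.ne_iff.1 hv
  simp only [Pi.zero_apply] at hi hj
  have hij := congrFun (congrFun h i) j
  simp only [Matrix.smul_apply, Matrix.vecMulVec_apply, smul_eq_mul] at hij
  by_cases ha : φ ⬝ᵥ w = 0
  · refine ⟨ha, ?_⟩
    by_contra hb
    obtain ⟨k, hk⟩ := Function.ne_iff.1 hw
    obtain ⟨l, hl⟩ := Function.ne_iff.1 hφ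
    have hkl := congrFun (congrFun h k) l
    simp only [Matrix.smul_apply, Matrix.vecMulVec_apply, smul_eq_mul, ha, zero_mul] at hkl
    exact mul_ne_zero hb (mul_ne_zero hk hl) hkl.symm
  · exfalso
    have hv' : ∀ k, v k * ((φ ⬝ᵥ w) * ψ j) = ((ψ ⬝ᵥ v) * φ j) * w k := fun k => by
      have := congrFun (congrFun h k) j
      simp only [Matrix.smul_apply, Matrix.vecMulVec_apply, smul_eq_mul] at this
      linear_combination this
    have h0 : (φ ⬝ᵥ v) * ((φ ⬝ᵥ w) * ψ j) = ((ψ ⬝ᵥ v) * φ j) * (φ ⬝ᵥ w) := by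
      have e3 : ∀ x : Fin 3 → ZMod 3, φ ⬝ᵥ x = φ 0 * x 0 + φ 1 * x 1 + φ 2 * x 2 := fun x => by
        simp [dotProduct, Fin.sum_univ_three]
      rw [e3 v]
      conv_rhs => rw [e3 w]
      linear_combination (φ 0) * hv' 0 + (φ 1) * hv' 1 + (φ 2) * hv' 2
    rw [h1, zero_mul] at h0
    have hz := (mul_eq_zero.1 h0.symm).resolve_right ha
    have := hv' i
    rw [hz, zero_mul] at this
    exact mul_ne_zero hi (mul_ne_zero ha hj) this

theorem commute_tv (s t : Fin 104) : Commute (tv s) (tv t) ↔ cAdj s t := by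
  obtain ⟨a1, a2, a3⟩ := tv_nonzero s
  obtain ⟨b1, b2, -⟩ := tv_nonzero t
  rw [cAdj, ← comm_table, Bool.and_eq_true, decide_eq_true_iff, decide_eq_true_iff,
    ← dot_vec_eq_zero, ← dot_vec_eq_zero]
  refine Iff.trans ?_ (tmat_comm_iff a1 a2 b1 b2 a3)
  exact ⟨fun h => congrArg Subtype.val h, fun h => Subtype.ext h⟩

/-- first generator of a clique -/
def genA (i : Fin 26) : Fin 104 := ⟨look pairA i % 104, Nat.mod_lt _ (by norm_num)⟩

/-- second generator of a clique -/
def genB (i : Fin 26) : Fin 104 := ⟨look pairB i % 104, Nat.mod_lt _ (by norm_num)⟩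

/-- a witness that the generators differ -/
def genW (i : Fin 26) : Fin 104 := ⟨look pairW i % 104, Nat.mod_lt _ (by norm_num)⟩

/-- a clique through `t` -/
def cIn (t : Fin 104) : Fin 26 := ⟨look inClique t % 26, Nat.mod_lt _ (by norm_num)⟩

/-- a clique away from `t` -/
def cOff (t : Fin 104) : Fin 26 := ⟨look offClique t % 26, Nat.mod_lt _ (by norm_num)⟩

theorem adj_symm : ∀ s t : Fin 104, cAdj s t → cAdj t s := by decide +kernel

theorem mem_iff_gen : ∀ (i : Fin 26) (t : Fin 104), cMem i t ↔ cAdj t (genA i) ∧ cAdj t (genB i) := by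
  decide +kernel

theorem gen_adj : ∀ i : Fin 26, cAdj (genA i) (genB i) ∧ cAdj (genW i) (genA i) ∧
    ¬ cAdj (genW i) (genB i) := by
  decide +kernel

theorem pair_cases : ∀ a b : Fin 104, cAdj a b →
    (look commList a &&& look commList b) ∈ cliqueList ∨
      (look commList a &&& look commList b) = look commList a := by
  decide +kernel

theorem clique_inj : ∀ i j : Fin 26, look cliqueList i = look cliqueList j → i = j := by decide +kernel

theorem clique_ext : ∀ i j : Fin 26, (∀ t : Fin 104, cMem i t ↔ cMem j t) → i = j := by decide +kernel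

theorem clique_len : cliqueList.length = 26 := by decide +kernel

theorem clique_adj : ∀ (i : Fin 26) (s : Fin 104), cMem i s → ∀ t : Fin 104, cMem i t → cAdj s t := by decide +kernel

theorem cIn_mem : ∀ t : Fin 104, cMem (cIn t) t := by decide +kernel

theorem cOff_away : ∀ t u : Fin 104, cMem (cOff t) u → ¬ cAdj u t := by decide +kernel

theorem exists_not_adj : ∀ t : Fin 104, ∃ s : Fin 104, ¬ cAdj s t := by decide +kernel

/-- the index of `1 + v φ` -/
theorem exists_tv_codes : ∀ a b : Fin 27, vec a.val ≠ 0 → vec b.val ≠ 0 →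
    vec b.val ⬝ᵥ vec a.val = 0 → ∃ t : Fin 104,
      (look vList t = a.val ∧ look phiList t = b.val) ∨
      (vec (look vList t) = -vec a.val ∧ vec (look phiList t) = -vec b.val) := by
  decide +kernel

theorem vec_code : ∀ v : Fin 3 → ZMod 3, vec (code v) = v ∧ code v < 27 := by decide +kernel

theorem exists_tv (v φ : Fin 3 → ZMod 3) (hv : v ≠ 0) (hφ : φ ≠ 0) (h : φ ⬝ᵥ v = 0) :
    ∃ t, (tv t).1 = tmat v φ := by
  obtain ⟨hv1, hv2⟩ := vec_code v
  obtain ⟨hp1, hp2⟩ := vec_code φ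
  obtain ⟨t, ht⟩ := exists_tv_codes ⟨code v, hv2⟩ ⟨code φ, hp2⟩ (by simpa [hv1]) (by simpa [hp1])
    (by simpa [hv1, hp1])
  refine ⟨t, ?_⟩
  rcases ht with ⟨h1, h2⟩ | ⟨h1, h2⟩
  · rw [tv_val, vC, phiC, h1, h2]; simp only [hv1, hp1]
  · rw [tv_val, vC, phiC, h1, h2]; simp only [hv1, hp1, tmat, Matrix.neg_vecMulVec, Matrix.vecMulVec_neg, neg_neg]

/-- a conjugator onto transvection `t` -/
def zG (t : Fin 104) : Matrix (Fin 3) (Fin 3) (ZMod 3) := matOf (look zConjList t)

theorem zG_spec : ∀ t : Fin 104, (zG t).det = 1 ∧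
    zG t * tmat (vec 1) (vec 9) = tmat (vC t) (phiC t) * zG t := by
  decide +kernel

/-- the second model generator -/
def yMat (k : ℕ) : Matrix (Fin 3) (Fin 3) (ZMod 3) :=
  if k = 0 then tmat (vec 1) (vec 3) else tmat (vec 3) (vec 9)

/-- a conjugator onto the generators of a clique -/
def cG (i : Fin 26) : Matrix (Fin 3) (Fin 3) (ZMod 3) := matOf (look pairG i)

theorem cG_spec : ∀ i : Fin 26, (cG i).det = 1 ∧
    cG i * tmat (vec 1) (vec 9) = tmat (vC (genA i)) (phiC (genA i)) * cG i ∧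
    cG i * yMat (look pairK i) = tmat (vC (genB i)) (phiC (genB i)) * cG i := by
  decide +kernel

theorem z_det : (tmat (vec 1) (vec 9)).det = 1 := by decide +kernel

/-- `1 + E₁₃` -/
def zSL : SLThree := ⟨tmat (vec 1) (vec 9), z_det⟩

theorem tv_conj_z (t : Fin 104) : ∃ g : SLThree, tv t = g * zSL * g⁻¹ := by
  obtain ⟨hd, he⟩ := zG_spec t
  let g : SLThree := ⟨zG t, hd⟩
  have hg : tv t * g = g * zSL := Subtype.ext he.symm
  exact ⟨g, eq_mul_inv_iff_mul_eq.2 hg⟩

theorem exists_tv_conj (g : SLThree) (t : Fin 104) : ∃ s, g * tv t * g⁻¹ = tv s := by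
  obtain ⟨hne1, hne2, hdot⟩ := tv_nonzero t
  have hgi : (g⁻¹ : SLThree).1 * g.1 = 1 := by
    rw [← Matrix.SpecialLinearGroup.coe_mul, inv_mul_cancel, Matrix.SpecialLinearGroup.coe_one]
  have hig : g.1 * (g⁻¹ : SLThree).1 = 1 := by
    rw [← Matrix.SpecialLinearGroup.coe_mul, mul_inv_cancel, Matrix.SpecialLinearGroup.coe_one]
  obtain ⟨s, hs⟩ := exists_tv (g.1.mulVec (vC t)) (Matrix.vecMul (phiC t) (g⁻¹ : SLThree).1)
    (fun h => hne1 (by
      have h' := congrArg ((g⁻¹ : SLThree).1.mulVec) h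
      rwa [Matrix.mulVec_mulVec, hgi, Matrix.one_mulVec, Matrix.mulVec_zero] at h'))
    (fun h => hne2 (by
      have h' := congrArg (fun w => Matrix.vecMul w g.1) h
      beta_reduce at h'
      rwa [Matrix.vecMul_vecMul, hgi, Matrix.vecMul_one, Matrix.zero_vecMul] at h'))
    (by rw [← Matrix.dotProduct_mulVec, Matrix.mulVec_mulVec, hgi, Matrix.one_mulVec, hdot])
  refine ⟨s, Subtype.ext ?_⟩
  rw [Matrix.SpecialLinearGroup.coe_mul, Matrix.SpecialLinearGroup.coe_mul, tv_val, hs, tmat, tmat,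
    Matrix.mul_add, Matrix.mul_one, Matrix.add_mul, hig, Matrix.mul_vecMulVec, Matrix.vecMulVec_mul]

end Cfsg.Agent.Lead.CommGraph
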